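import Groth.Prelude.Def_PicRel2
import Groth.Agent.ThmA.Families
import Groth.Agent.Bdd.Union
import Groth.Agent.PicLOFT.Main
import Groth.Agent.NumTau.Fam
import Mathlib.AlgebraicGeometry.AlgClosed.Basic

/-!
# Bounded families of invertible modules and quasi-compact opens of the Picard scheme
-/

set_option autoImplicit false
set_option linter.style.haveILetI false
set_option linter.unusedSectionVars false
set_option backward.isDefEq.respectTransparency false
set_option backward.isDefEq.respectTransparency.types false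
set_option synthInstance.maxHeartbeats 400000
set_option maxHeartbeats 1000000
attribute [-instance] CategoryTheory.catToReflQuiver

universe u

open CategoryTheory CategoryTheory.Limits AlgebraicGeometry TopologicalSpace Opposite

noncomputable section

namespace Groth.Agent.PicBdd

open Groth.Agent

variable {k : Type u} [Field k] {X : Scheme.{u}} [X.Over (Spec (CommRingCat.of k))]

/-- The base as an object over itself. -/
abbrev pt (k : Type u) [Field k] : Over (Spec (CommRingCat.of k)) := Over.mk (𝟙 (Spec (CommRingCat.of k)))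

/-- The class of a module on `X` seen on `X × Spec k`. -/
abbrev clPt (L : X.Modules) : PicF.Cl (PicF.XT (X ↘ Spec (CommRingCat.of k)) (pt k)) :=
  PicF.pullCl (pullback.fst (X ↘ Spec (CommRingCat.of k)) (𝟙 (Spec (CommRingCat.of k)))) (PicF.cl L)

theorem clPt_fibre {T : Over (Spec (CommRingCat.of k))} (t : pt k ⟶ T)
    (M : (Pic13.prodK k X T.hom).Modules) (ht : t.left ≫ T.hom = 𝟙 _) :
    clPt (Pic13.fibreMod k X T.hom t.left ht M) =
      PicF.pullCl (PicF.XTmap (X ↘ Spec (CommRingCat.of k)) t) (PicF.cl M) := by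
  show PicF.pullCl _ (PicF.pullCl (Pic13.sliceAt k X T.hom t.left ht) (PicF.cl M)) = _
  rw [PicClLib.pullCl_comp]
  congr 2
  apply pullback.hom_ext
  · simp [Pic13.sliceAt, PicF.XTmap]
  · simp only [Pic13.sliceAt, PicF.XTmap, Category.assoc, pullback.lift_snd]
    rw [← Category.assoc, pullback.condition, Category.assoc, Category.id_comp]
    rfl

theorem clPt_injective {L L' : X.Modules} (h : clPt (k := k) L = clPt L') : PicF.cl L = PicF.cl L' := by
  have h' := congrArg (PicF.pullCl (pullback.lift (𝟙 X) (X ↘ Spec (CommRingCat.of k)) (by simp) :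
    X ⟶ PicF.XT (X ↘ Spec (CommRingCat.of k)) (pt k))) h
  simp only [clPt, PicClLib.pullCl_comp] at h'
  erw [pullback.lift_fst] at h'
  rwa [PicClLib.pullCl_id, PicClLib.pullCl_id] at h'

theorem isInvertibleCl_clPt {L : X.Modules} (hL : PicF.IsInvertible L) :
    PicF.IsInvertibleCl (clPt (k := k) L) :=
  RelPicGrp.isInvertibleCl_pull _ ⟨L, rfl, hL⟩

variable [IsAlgClosed k] [IsProper (X ↘ Spec (CommRingCat.of k))]
  {P : Over (Spec (CommRingCat.of k))}
  {φ : ∀ T : Over (Spec (CommRingCat.of k)),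
    PicF.Cl (PicF.XT (X ↘ Spec (CommRingCat.of k)) T) → (T ⟶ P)}

theorem exists_point {W : Scheme.{u}} (h : W ⟶ Spec (CommRingCat.of k)) [LocallyOfFiniteType h]
    {C : Set W} (hC : IsClosed C) (hne : C.Nonempty) :
    ∃ t : pt k ⟶ Over.mk h, t.left (IsLocalRing.closedPoint k) ∈ C := by
  haveI : JacobsonSpace W := LocallyOfFiniteType.jacobsonSpace h
  obtain ⟨c, hcC, hc⟩ := nonempty_inter_closedPoints hne hC.isLocallyClosed
  exact ⟨Over.homMk (pointOfClosedPoint h c hc) (pointOfClosedPoint_comp h c hc),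
    by
      show pointOfClosedPoint h c hc _ ∈ C
      rw [pointOfClosedPoint_apply]; exact hcC⟩

theorem cl_eq_of_phi_eq (hP : PicRel.IsRelPic (X ↘ Spec (CommRingCat.of k)) P φ)
    {c c' : PicF.Cl (PicF.XT (X ↘ Spec (CommRingCat.of k)) (pt k))}
    (hc : PicF.IsInvertibleCl c) (hc' : PicF.IsInvertibleCl c') (h : φ _ c = φ _ c') : c = c' := by
  obtain ⟨ι, U, hU, hUe⟩ := hP.locallyInjective (pt k) c c' hc hc' h
  obtain ⟨i, y, -⟩ := hU (IsLocalRing.closedPoint k)
  haveI : Etale (U i).hom := (U i).prop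
  obtain ⟨t, -⟩ := exists_point ((U i).hom ≫ 𝟙 _) (isClosed_univ (X := (U i).left)) ⟨y, trivial⟩
  have e : t ≫ PicRel.ovrHom (pt k) (U i) = 𝟙 _ :=
    Over.OverMorphism.ext (by
      show t.left ≫ (U i).hom = 𝟙 _
      have := Over.w t
      simpa using this)
  have h' := congrArg (PicF.pullCl (PicF.XTmap (X ↘ Spec (CommRingCat.of k)) t)) (hUe i)
  simp only [PicClLib.pullCl_comp, ← PicClLib.XTmap_comp, e] at h'
  have hid : PicF.XTmap (X ↘ Spec (CommRingCat.of k)) (𝟙 (pt k)) = 𝟙 _ := by
    apply pullback.hom_ext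
    all_goals simp only [PicF.XTmap, pullback.lift_fst, pullback.lift_snd, Category.id_comp]
    all_goals exact Category.comp_id _
  rwa [hid, PicClLib.pullCl_id, PicClLib.pullCl_id] at h'

theorem range_subset_of_isBounded (hP : PicRel.IsRelPic (X ↘ Spec (CommRingCat.of k)) P φ)
    {Q : X.Modules → Prop} (hQ : ∀ L, Q L → PicF.IsInvertible L) (hb : Pic13.IsBounded k X Q) :
    ∃ U : P.left.Opens, IsCompact (U : Set P.left) ∧
      ∀ L, Q L → Set.range (φ (pt k) (clPt L)).left.base ⊆ (U : Set P.left) := by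
  classical
  obtain ⟨N, 𝔽, h𝔽⟩ := ThmA.exists_families_proper hQ hb
  let T : Fin N → Over (Spec (CommRingCat.of k)) := fun j => Over.mk (𝔽 j).q
  let g : ∀ j, T j ⟶ P := fun j => φ (T j) (PicF.cl (𝔽 j).M)
  let K : Set P.left := ⋃ j, Set.range (g j).left
  have hK : IsCompact K := isCompact_iUnion fun j => by
    haveI := (𝔽 j).qc
    haveI : CompactSpace (T j).left := QuasiCompact.compactSpace_of_compactSpace (𝔽 j).q
    exact isCompact_range (g j).left.continuous
  obtain ⟨s, hs⟩ := hK.elim_finite_subcover (fun V : P.left.affineOpens => (V.1 : Set P.left))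
    (fun V => V.1.2) (fun x _ => by
      obtain ⟨V, hV, hxV, -⟩ := exists_isAffineOpen_mem_and_subset (U := (⊤ : P.left.Opens)) (x := x) trivial
      exact Set.mem_iUnion.2 ⟨⟨V, hV⟩, hxV⟩)
  refine ⟨⨆ V ∈ s, V.1, ?_, fun L hL => ?_⟩
  · simp only [Opens.coe_iSup]
    exact s.isCompact_biUnion fun V _ => V.2.isCompact
  · obtain ⟨j, t, ht, ⟨e⟩⟩ := h𝔽 L hL
    let t' : pt k ⟶ T j := Over.homMk t ht
    have h1 : φ (pt k) (clPt L) = t' ≫ g j := by
      rw [← hP.natural _ _ t' _ ⟨_, rfl, (𝔽 j).inv⟩, ← clPt_fibre t' (𝔽 j).M ht]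
      exact congrArg (φ (pt k)) (congrArg (PicF.pullCl _) (Quot.sound ⟨e.symm⟩))
    rintro _ ⟨z, rfl⟩
    rw [h1]
    have hz : ((g j).left (t z) : P.left) ∈ K := Set.mem_iUnion.2 ⟨j, t z, rfl⟩
    simp only [Opens.coe_iSup]
    exact hs hz

theorem isBounded_empty : Pic13.IsBounded k X (fun _ => False) :=
  ⟨Spec (CommRingCat.of k), 𝟙 _, inferInstance, inferInstance,
    (Scheme.Modules.pullback (pullback.fst _ _)).obj (Coh.structureModule X),
    by
      haveI : IsLocallyNoetherian X :=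
        LocallyOfFiniteType.isLocallyNoetherian (X ↘ Spec (CommRingCat.of k))
      haveI : IsLocallyNoetherian (Pic13.prodK k X (𝟙 (Spec (CommRingCat.of k)))) :=
        LocallyOfFiniteType.isLocallyNoetherian (pullback.fst _ _ : Pic13.prodK k X (𝟙 _) ⟶ X)
      exact AmpleVan.isCoh_invertible (PicClLib.isInvertible_pullback _ InvX.isInvertible_structureModule),
    fun _ h => h.elim⟩

theorem isBounded_of_open (hP : PicRel.IsRelPic (X ↘ Spec (CommRingCat.of k)) P φ)
    {Q : X.Modules → Prop} (hQ : ∀ L, Q L → PicF.IsInvertible L) {U : P.left.Opens}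
    (hUc : IsCompact (U : Set P.left))
    (hU : ∀ L, Q L → Set.range (φ (pt k) (clPt L)).left.base ⊆ (U : Set P.left)) :
    Pic13.IsBounded k X Q := by
  classical
  haveI := PicLOFT.locallyOfFiniteType hP
  haveI : IsLocallyNoetherian X :=
    LocallyOfFiniteType.isLocallyNoetherian (X ↘ Spec (CommRingCat.of k))
  obtain ⟨ι, V, hV, hc⟩ := hP.locallySurjective P (𝟙 P)
  choose c hci hcφ using hc
  choose i y hy using fun x : P.left => hV x
  choose W hW hyW hsub using fun x : P.left =>
    exists_isAffineOpen_mem_and_subset (U := (⊤ : (V (i x)).left.Opens)) (x := y x) trivial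
  let g : ∀ x : P.left, (W x).toScheme ⟶ P.left := fun x => (W x).ι ≫ (V (i x)).hom
  haveI hg : ∀ x, Etale (g x) := fun x => by
    haveI : Etale (V (i x)).hom := (V (i x)).prop
    exact MorphismProperty.comp_mem _ _ _ inferInstance ‹_›
  have hopen : ∀ x, IsOpen (Set.range (g x)) := fun x => (g x).isOpenMap.isOpen_range
  obtain ⟨s, hs⟩ := hUc.elim_finite_subcover (fun x => Set.range (g x)) hopen (fun x _ =>
    Set.mem_iUnion.2 ⟨x, ⟨y x, hyW x⟩, hy x⟩)
  let P' : P.left → X.Modules → Prop := fun x L =>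
    PicF.IsInvertible L ∧ ∃ z, g x z = (φ (pt k) (clPt L)).left (IsLocalRing.closedPoint k)
  have hpiece : ∀ x, Pic13.IsBounded k X (P' x) := fun x => by
    classical
    let T : Over (Spec (CommRingCat.of k)) := Over.mk (g x ≫ P.hom)
    haveI : IsAffine T.left := hW x
    haveI : LocallyOfFiniteType T.hom := inferInstanceAs (LocallyOfFiniteType (g x ≫ P.hom))
    let gW : T ⟶ PicRel.ovr P (V (i x)) := Over.homMk (W x).ι (Category.assoc _ _ _).symm
    let cW := PicF.pullCl (PicF.XTmap (X ↘ Spec (CommRingCat.of k)) gW) (c (i x))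
    have hcW : φ T cW = gW ≫ PicRel.ovrHom P (V (i x)) := by
      rw [hP.natural _ _ gW _ (hci (i x)), hcφ (i x), Category.comp_id]
    obtain ⟨M, hM, hMi⟩ := RelPicGrp.isInvertibleCl_pull (PicF.XTmap (X ↘ Spec (CommRingCat.of k)) gW) (hci (i x))
    haveI : IsLocallyNoetherian T.left := LocallyOfFiniteType.isLocallyNoetherian T.hom
    haveI : IsLocallyNoetherian (Pic13.prodK k X T.hom) :=
      LocallyOfFiniteType.isLocallyNoetherian (Y := T.left) (pullback.snd (X ↘ Spec (CommRingCat.of k)) T.hom)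
    refine ⟨T.left, T.hom, inferInstance, inferInstance, M, AmpleVan.isCoh_invertible (X := Pic13.prodK k X T.hom) hMi,
      fun L hL => ?_⟩
    obtain ⟨hLi, z, hz⟩ := hL
    let p := φ (pt k) (clPt L)
    have hcl : IsClosed ({p.left (IsLocalRing.closedPoint k)} : Set P.left) :=
      ((pointEquivClosedPoint P.hom) ⟨p.left, Over.w p⟩).2
    obtain ⟨t, ht⟩ := exists_point (W := T.left) T.hom (hcl.preimage (g x).continuous) ⟨z, hz⟩
    have htp : t ≫ φ T cW = p := by
      refine Over.OverMorphism.ext (ext_of_apply_closedPoint_eq P.hom (Over.w _) (Over.w _) ?_)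
      rw [hcW]
      exact ht
    have hcl' : clPt (k := k) L = clPt (k := k) (Pic13.fibreMod k X T.hom t.left (Over.w t) M) := by
      refine cl_eq_of_phi_eq hP (isInvertibleCl_clPt hLi) ?_ ?_
      · rw [clPt_fibre]
        exact RelPicGrp.isInvertibleCl_pull _ ⟨M, rfl, hMi⟩
      · rw [clPt_fibre, hM]
        exact (htp.symm).trans (hP.natural _ _ t cW (RelPicGrp.isInvertibleCl_pull _ (hci (i x)))).symm
    exact ⟨t.left, Over.w t, H23.PicMul.cl_eq_iff.1 (clPt_injective hcl').symm⟩
  have hall : ∀ s : Finset P.left, Pic13.IsBounded k X (fun L => ∃ x ∈ s, P' x L) := fun s => by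
    induction s using Finset.induction_on with
    | empty => exact Bdd.isBounded_mono isBounded_empty fun L ⟨x, hx, _⟩ => absurd hx (by simp)
    | insert a s _ ih =>
      refine Bdd.isBounded_mono (Bdd.isBounded_or (hpiece a) ih) fun L ⟨x, hx, hL⟩ => ⟨L, ?_, ⟨Iso.refl _⟩⟩
      rcases Finset.mem_insert.1 hx with rfl | hx
      exacts [Or.inl hL, Or.inr ⟨x, hx, hL⟩]
  refine Bdd.isBounded_mono (hall s) fun L hL => ⟨L, ?_, ⟨Iso.refl _⟩⟩
  obtain ⟨x, hx, z, hz⟩ := Set.mem_iUnion₂.1 (hs (hU L hL ⟨IsLocalRing.closedPoint k, rfl⟩))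
  exact ⟨x, hx, hQ L hL, z, hz⟩

end Groth.Agent.PicBdd
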